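import Cfsg.Agent.H823.O8S.Base
import Cfsg.Agent.H659.O8.Own
import Cfsg.Agent.H917.OmOwn
import Cfsg.Agent.H879.TL.Reindex

/-!
# S3938-OPLUS8, O3: the socles of Lie type in characteristic `p` which contain an element of order `r` (helper911)
-/

set_option autoImplicit false
set_option linter.unusedSectionVars false

namespace Cfsg.Agent.H911.O8S

open Cfsg Cfsg.Geo Cfsg.Agent.OrdDiv Cfsg.Agent.H436 Cfsg.Agent.H915.GN Cfsg.Agent.H264.GN Cfsg.Agent.H264.FKS
open Cfsg.Agent.H902 Cfsg.Agent.H902.Names Cfsg.Agent.H708.O8 Cfsg.Agent.H915.LD Cfsg.Agent.H884.El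
open Cfsg.Agent.H659.O8 Cfsg.Agent.H823.O8S
open scoped MatrixGroups Matrix

universe u

variable {p a r k : ℕ} {g : Grp}

theorem seven_le (h : RW p a r k) : 7 ≤ r := by
  have h1 : 6 * a < r := lt_of_prim h.prim
  have := h.ha
  omega

/-- `r` does not divide the order of the group of diagonal outer automorphisms -/
theorem not_dvd_dd (h : RW p a r k) {X : Art.Sh} {f : ℕ} (hg : Cond g) (hl : IsLie g X p f)
    (hf : 1 ≤ f) (hM : f * Mg g ≤ 6 * a) : ¬ r ∣ Art.dd X (p ^ f) := by
  have h7 := seven_le h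
  have h4 : ∀ {m n : ℕ}, m ≤ 4 → 0 < m → r ∣ Nat.gcd m n → False := fun h1 h2 h3 => by
    have := Nat.le_of_dvd h2 (h3.trans (Nat.gcd_dvd_left _ _))
    omega
  have h1 : r ∣ 1 → False := fun h => by
    have := Nat.dvd_one.1 h
    omega
  intro hd
  cases hl with
  | psl n p f =>
    have hd' : r ∣ Nat.gcd n (p ^ f - 1) := hd
    have h2 := hd'.trans (Nat.gcd_dvd_right _ _)
    rw [h.prim.dvd_iff] at h2
    have h3 := Nat.le_of_dvd (by omega) h2
    have h6 : f * 2 ≤ f * n := Nat.mul_le_mul_left _ hg.1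
    have h7 : f * n ≤ 6 * a := hM
    omega
  | psu n p f =>
    have hd' : r ∣ Nat.gcd n (p ^ f + 1) := hd
    have h2 := hd'.trans (Nat.gcd_dvd_right _ _)
    have h3 := h2.trans (add_dvd p f)
    rw [h.prim.dvd_iff] at h3
    have h6 := Nat.le_of_dvd (by omega) h3
    have h7 : f * (2 * (if n % 2 = 0 then n - 1 else n)) ≤ 6 * a := hM
    have h8 : f * 6 ≤ f * (2 * (if n % 2 = 0 then n - 1 else n)) := by
      apply Nat.mul_le_mul_left
      have := hg.1
      split_ifs <;> omega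
    omega
  | psp n p f => exact h4 (by norm_num) (by norm_num) hd
  | oodd n p f hn ho => exact h4 (by norm_num) (by norm_num) hd
  | oplus n p f => exact h4 (by norm_num) (by norm_num) hd
  | ominus n p f => exact h4 (by norm_num) (by norm_num) hd
  | e6 p f => exact h4 (by norm_num) (by norm_num) hd
  | e7 p f => exact h4 (by norm_num) (by norm_num) hd
  | te6 p f => exact h4 (by norm_num) (by norm_num) hd
  | _ => exact h1 hd

section
variable {F : Type} [Field F] [Fintype F]

/-- **the order argument**: the largest exponent of the socle is `6 a` -/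
theorem key (hF : Nat.card F = p ^ a) (h : RW p a r k) {R : Subgroup (T8 F)} (S : Subgroup R) [S.Normal]
    (hS : IsSimpleGroup S) (hna : ¬ IsMulCommutative S) (hC : Subgroup.centralizer (S : Set R) = ⊥)
    (hr : r ∣ Nat.card R) (hn : IsNamed g S) (hch : HasChar p g) :
    ∃ f, 1 ≤ f ∧ fld g = p ^ f ∧ f * Mg g = 6 * a ∧ KD p f (Nat.card S) (Xg g) (Yg g) (Mg g) (ag g) ∧
      TD p a (Nat.card S) (fun i => 1 ≤ i ∧ i ≤ 6 ∧ (2 ∣ i ∨ i = 4)) 6 12 := by
  have hp := h.hp
  have ha := h.ha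
  have h7 := seven_le h
  have hT8 : Nat.gcd 4 ((p ^ a) ^ 4 - 1) * Nat.card (T8 F) =
      (p ^ a) ^ (4 * (4 - 1)) * (((p ^ a) ^ 4 - 1) * prB (p ^ a) (4 - 1)) := by
    have h1 := oplus_eq (F := F) (m := 4) le_rfl
    rw [← Nat.card_eq_fintype_card, hF] at h1
    exact h1
  have hSR : Nat.card S ∣ Nat.card (T8 F) := (Subgroup.card_subgroup_dvd_card S).trans (Subgroup.card_subgroup_dvd_card R)
  have hT : TD p a (Nat.card S) (fun i => 1 ≤ i ∧ i ≤ 6 ∧ (2 ∣ i ∨ i = 4)) 6 12 := by
    refine td_oplus hp ha (n := 4) (by norm_num) (hSR.trans ?_)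
    rw [← hT8]
    exact Dvd.intro_left _ rfl
  obtain ⟨f, hf, hfl, hK, hY⟩ := kd_all hp hn.cond hch hn.eq
  have hM := top_le hp ha hK hY hT
  have h2M : f * 2 ≤ f * Mg g := Nat.mul_le_mul_left _ (H659.O8.two_le_Mg hn.cond hch)
  refine ⟨f, hf, hfl, ?_, hK, hT⟩
  have h1 := hr.trans (dvd_aut S hC)
  rw [← H934.OutB.card_out_mul S hna] at h1
  obtain ⟨X, f₁, h6, h7', h8⟩ := exists_lie hp hn hch
  obtain rfl : f₁ = f := Nat.pow_right_injective hp.two_le (h8.symm.trans hfl)
  have h6a : 6 * a < r := lt_of_prim h.prim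
  have hout : ¬ r ∣ Nat.card (Cfsg.Out S) := by
    intro h9
    obtain ⟨k, h10, h11, -⟩ := H364.OutLie.card_out (not_comm hna) h6 hn.real h7'
    rw [h10] at h9
    rcases h.prim.prime.dvd_mul.1 h9 with h12 | h12
    · rcases h.prim.prime.dvd_mul.1 (h12.trans h11) with h13 | h13
      · have h14 : r ∣ 2 ^ 3 * 3 := h13
        rcases h.prim.prime.dvd_mul.1 h14 with h15 | h15
        · have := Nat.le_of_dvd (by norm_num) (h.prim.prime.dvd_of_dvd_pow h15)
          omega
        · have := Nat.le_of_dvd (by norm_num) h15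
          omega
      · exact not_dvd_dd h hn.cond h6 hf hM h13
    · have := Nat.le_of_dvd (by omega) h12
      omega
  have hrS : r ∣ Nat.card S := by
    rcases h.prim.prime.dvd_mul.1 h1 with h2 | h2
    · exact absurd h2 hout
    · exact h2
  obtain ⟨i, hi, hd⟩ := hK.exp h.prim hrS
  obtain ⟨hi1, hi2⟩ := hK.le hi
  have h9 : 6 * a ≤ f₁ * i := Nat.le_of_dvd (Nat.mul_pos hf hi1) hd
  have h10 : f₁ * i ≤ f₁ * Mg g := Nat.mul_le_mul_left _ hi2
  omega

end

open Matrix

theorem charP_of {F : Type} [Field F] [Fintype F] {p a : ℕ} (hp : p.Prime) (hF : Nat.card F = p ^ a) : CharP F p := by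
  obtain ⟨p', hp'⟩ := CharP.exists F
  obtain ⟨n, hpr, hc⟩ := FiniteField.card F p'
  rw [← Nat.card_eq_fintype_card, hF] at hc
  have h1 : p' ∣ p ^ a := by rw [hc]; exact dvd_pow_self _ n.ne_zero
  have h2 := (Nat.prime_dvd_prime_iff_eq hpr hp).1 (hpr.dvd_of_dvd_pow h1)
  rwa [h2] at hp'

theorem nd_plus (m : ℕ) (F : Type*) [Field F] : IsNondegenerateQuadraticForm (quadFormPlus m F) := by
  rw [← LieClassical.OrthForms.coe_plusForm]
  exact H925.isND_of_nondeg (LieClassical.OrthForms.nondeg_plusForm m F)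

section
variable {F : Type} [Field F] [Fintype F] {p a r k : ℕ}

theorem mem_fix {Q : (I8 → F) → F} {g : GL I8 F} (h : g ∈ omegaGL Q) (v : I8 → F) :
    Q ((g : Matrix I8 I8 F) *ᵥ v) = Q v := by
  obtain ⟨x, -, rfl⟩ := h
  exact (ClassicalGeometry.Reflection.mem_isometryGroup_iff _ _).1 x.2 v

set_option maxHeartbeats 2000000 in
/-- **(O3)** own characteristic: the socles which contain an element of order `r` -/
theorem own (hF : Nat.card F = p ^ a) (h : RW p a r k) {R : Subgroup (T8 F)} (hR : R ≠ ⊤)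
    (S : Subgroup R) [S.Normal] (hS : IsSimpleGroup S) (hna : ¬ IsMulCommutative S)
    (hC : Subgroup.centralizer (S : Set R) = ⊥) {P : Subgroup (GL I8 F)}
    (hP : IsResidualCore (pre (quadFormPlus 4 F) R) P) (e : S ≃* Soc P) (hL : IsLieTypeChar p (Soc P))
    (hr : r ∣ Nat.card R) :
    (∃ (K : Type) (_ : Field K) (_ : Fintype K), Fintype.card K = p ^ (3 * a) ∧
      Nonempty (S ≃* Matrix.ProjectiveSpecialLinearGroup (Fin 2) K)) ∨
    IsNamed (.psu 3 (p ^ a)) S ∨
    (∃ (K : Type) (_ : Field K) (_ : Fintype K), Fintype.card K = p ^ a ∧ Nonempty (S ≃* PSp 3 K)) ∨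
    (p ≠ 2 ∧ ∃ (K : Type) (_ : Field K) (_ : Fintype K), Fintype.card K = p ^ a ∧
      Nonempty (S ≃* POmega K (quadFormOdd 3 K))) := by
  have hp := h.hp
  have ha := h.ha
  have hpf : Fact p.Prime := ⟨hp⟩
  have hch : CharP F p := charP_of hp hF
  have hcore := core_of_residual hP
  have hs := hcore.simple
  have h8 : Fintype.card I8 = 8 := by rw [Fintype.card_sum, Fintype.card_fin]
  have nd := nd_plus 4 F
  have hle : P ≤ omegaGL (quadFormPlus 4 F) := hP.le.trans pre_le_omegaGL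
  have hfix : FixesQuadForm (matrixSet P) (quadFormPlus 4 F) := by
    rintro _ ⟨x, hx, rfl⟩ v
    exact mem_fix (hle hx) v
  have hFQ : FixQ P := ⟨_, nd, hfix⟩
  have hsd : SD P := H879.Nine.sd_of_fixQ hFQ
  -- the exponent from a name
  have K1 : ∀ {g : Grp}, IsNamed g S → HasChar p g → ∃ f, 1 ≤ f ∧ fld g = p ^ f ∧ f * Mg g = 6 * a ∧
      KD p f (Nat.card S) (Xg g) (Yg g) (Mg g) (ag g) ∧
      TD p a (Nat.card S) (fun i => 1 ≤ i ∧ i ≤ 6 ∧ (2 ∣ i ∨ i = 4)) 6 12 :=
    fun hn hc => key hF h S hS hna hC hr hn hc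
  have inj : ∀ {f f' : ℕ}, p ^ f = p ^ f' → f = f' := fun h => Nat.pow_right_injective hp.two_le h
  have hFc : Fintype.card F = p ^ a := by rw [← Nat.card_eq_fintype_card]; exact hF
  let ε : I8 ≃ Fin 8 := Fintype.equivFinOfCardEq h8
  rcases H905.Md.small_dc (p := p) hcore.absIrred.1 hcore.perfect hL (by rw [h8]; norm_num) with
    h' | h' | h' | h' | h' | h' | h' | h' | h' | h' | h'
  · obtain ⟨K, i1, i2, i3, l, hl, hK, ⟨e'⟩⟩ := h'
    have hn : IsNamed (.psl (l + 1) (Fintype.card K)) S := by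
      refine .mk' ⟨K, inferInstance, inferInstance, rfl, ⟨e.trans e'⟩⟩
        ⟨by omega, fun h => by rw [← Nat.card_eq_fintype_card]; exact hK (by omega), Fintype.isPrimePow_card_of_field⟩ ?_
      rw [Nat.card_congr (e.trans e').toEquiv]
      exact psl_eq (by omega)
    obtain ⟨f, hf, hfl, hM, -⟩ := K1 hn (exists_pow_card K)
    have hfl' : Fintype.card K = p ^ f := hfl
    have hM' : f * (l + 1) = 6 * a := hM
    rcases (show l = 1 ∨ l = 2 ∨ 3 ≤ l by omega) with rfl | rfl | hl3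
    · left
      exact ⟨K, i1, i2, by rw [hfl']; congr 1; omega, ⟨e.trans e'⟩⟩
    · exfalso
      obtain ⟨h1, -⟩ := H911.Ad.sd_psl3 (p := p) hcore hsd e' (by rw [h8]; norm_num)
      rw [Nat.card_eq_fintype_card, Nat.card_eq_fintype_card, hfl', hFc] at h1
      have := inj h1
      omega
    · exfalso
      rcases (show l + 1 < 8 ∨ l + 1 = 8 ∨ 9 ≤ l + 1 by omega) with h2 | h2 | h2
      · have := (H887.DS.sd_of_psl p hcore (m := l + 1) (by omega) (by rw [h8]; exact h2) (by rw [h8]; omega) e').2.1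
        omega
      · have hc' : Core (H879.Rx.rx ε P) := H879.Rx.core_rx ε hcore
        have := hc'.simple
        have h1 := H905.Md.psl_eq p hc'.absIrred hc'.perfect hl hK ((H879.Rx.socEqv ε P).symm.trans e') hc'.no_subfield h2.symm
        have h3 := h1.1
        rw [Nat.card_eq_fintype_card, Nat.card_eq_fintype_card, hfl', hFc] at h3
        have := inj h3
        subst this
        rw [h2] at hM'
        omega
      · have h1 := H905.Md.psl_rank p hcore.absIrred hcore.perfect hl hK e'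
        rw [h8] at h1
        omega
  · obtain ⟨K, i1, i2, i3, m, hm, hm8, hK, ⟨e'⟩⟩ := h'
    rw [h8] at hm8
    have hn : IsNamed (.psp m (Fintype.card K)) S := by
      refine .mk' ⟨K, inferInstance, inferInstance, rfl, ⟨e.trans e'⟩⟩
        ⟨by omega, hK, Fintype.isPrimePow_card_of_field⟩ ?_
      rw [Nat.card_congr (e.trans e').toEquiv]
      exact psp_eq hm
    obtain ⟨f, hf, hfl, hM, -⟩ := K1 hn (exists_pow_card K)
    have hfl' : Fintype.card K = p ^ f := hfl
    have hM' : f * (2 * m) = 6 * a := hM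
    rcases (show m = 2 ∨ m = 3 ∨ m = 4 by omega) with rfl | rfl | rfl
    · exfalso
      obtain ⟨-, -, h1⟩ := H905.Sp4.core_psp4 (p := p) hcore (by rw [Nat.card_eq_fintype_card]; exact hK rfl) e'
        (by rw [h8]; norm_num)
      rw [h8] at h1
      omega
    · right; right; left
      exact ⟨K, i1, i2, by rw [hfl']; congr 1; omega, ⟨e.trans e'⟩⟩
    · exfalso
      obtain ⟨-, h1⟩ := H925.Nat.psp (p := p) hcore (by rw [h8]; norm_num) le_rfl (by norm_num) e'
      exact h1.sp_not_fixQ (by norm_num) hFQ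
  · obtain ⟨K, i1, i2, i3, N, q, hKq, hN, hN8, hq, ⟨e'⟩⟩ := h'
    rcases (show N = 3 ∨ N = 4 ∨ 5 ≤ N by omega) with rfl | rfl | hN5
    · right; left
      have hq2 : IsPrimePow (q ^ 2) := hKq ▸ Fintype.isPrimePow_card_of_field
      have hqp : IsPrimePow q := (isPrimePow_pow_iff (by norm_num)).1 hq2
      obtain ⟨k', hk'⟩ := exists_pow_card (p := p) K
      have hn : IsNamed (.psu 3 q) S := by
        refine .mk' ⟨K, inferInstance, inferInstance, hKq, ⟨e.trans e'⟩⟩ ⟨le_rfl, hq, hqp⟩ ?_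
        rw [Nat.card_congr (e.trans e').toEquiv]
        exact psu_eq hKq hN
      obtain ⟨f, hf, hfl, hM, -⟩ := K1 hn (exists_pow hp two_ne_zero (hKq.symm.trans hk'))
      have hfl' : q = p ^ f := hfl
      have hM' : f * (2 * 3) = 6 * a := hM
      have hfa : f = a := by omega
      rw [hfl', hfa] at hn
      exact hn
    · exfalso
      have := H876.D3.core_psu_four p K (by rw [h8]; norm_num) hKq hcore e'
      rw [h8] at this
      omega
    · exfalso
      have hc' : Core (H879.Rx.rx ε P) := H879.Rx.core_rx ε hcore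
      exact H879.Nine.own_psu (p := p) (by norm_num) hc' (H879.Rx.sd_rx ε hsd) hN5 hKq
        ((H879.Rx.socEqv ε P).symm.trans e')
  · exfalso
    obtain ⟨rfl, K, i1, i2, m, hm, hK, ⟨e'⟩⟩ := h'
    exact H861.SzN.sz_false hcore hm hK e' (by rw [h8]; norm_num) (by rw [h8]; norm_num)
  · exfalso
    obtain ⟨rfl, K, i1, i2, m, hm, hK, ⟨e'⟩⟩ := h'
    have := H708.ReeSix.ree_eq_seven hcore hm hK e' (by rw [h8]; norm_num)
    rw [h8] at this
    omega
  · obtain ⟨K, i1, i2, i3, m, hm, hm8, hodd, ⟨e'⟩⟩ := h'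
    rw [h8] at hm8
    have h2 : (2 : K) ≠ 0 := by
      intro h0
      have h3 : CharP K 2 := CharTwo.of_one_ne_zero_of_two_eq_zero one_ne_zero h0
      obtain ⟨k, -, hk⟩ := FiniteField.card K 2
      rw [hk] at hodd
      exact absurd hodd (by
        rw [Nat.not_odd_iff_even]
        exact (even_two).pow_of_ne_zero k.ne_zero)
    rcases (show m = 3 ∨ m = 4 by omega) with rfl | rfl
    · right; right; right
      have hn : IsNamed (.oodd 3 (Fintype.card K)) S := by
        refine .mk' ⟨K, inferInstance, inferInstance, rfl, ⟨e.trans e'⟩⟩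
          ⟨le_rfl, hodd, Fintype.isPrimePow_card_of_field⟩ ?_
        rw [Nat.card_congr (e.trans e').toEquiv]
        exact oodd_eq le_rfl hodd
      obtain ⟨f, hf, hfl, hM, -⟩ := K1 hn (exists_pow_card K)
      have hfl' : Fintype.card K = p ^ f := hfl
      have hM' : f * (2 * 3) = 6 * a := hM
      refine ⟨?_, K, i1, i2, by rw [hfl']; congr 1; omega, ⟨e.trans e'⟩⟩
      rintro rfl
      exact h2 (by exact_mod_cast CharP.cast_eq_zero K 2)
    · exfalso
      have h1 := (H925.Nat.po_odd (p := p) hcore (by rw [h8]; norm_num) le_rfl (by norm_num) h2 e').2.card_eq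
      simp at h1
  · exfalso
    obtain ⟨K, i1, i2, i3, m, hm, hm8, ⟨e'⟩⟩ := h'
    rw [h8] at hm8
    obtain rfl : m = 4 := by omega
    have hn : IsNamed (.oplus 4 (Fintype.card K)) S := by
      refine .mk' ⟨K, inferInstance, inferInstance, rfl, ⟨e.trans e'⟩⟩
        ⟨le_rfl, Fintype.isPrimePow_card_of_field⟩ ?_
      rw [Nat.card_congr (e.trans e').toEquiv]
      exact oplus_eq le_rfl
    obtain ⟨f, hf, hfl, hM, -⟩ := K1 hn (exists_pow_card K)
    have hfl' : Fintype.card K = p ^ f := hfl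
    have hM' : f * (2 * (4 - 1)) = 6 * a := hM
    obtain rfl : f = a := by omega
    have h1 : Nat.gcd 4 ((p ^ f) ^ 4 - 1) * Nat.card S =
        (p ^ f) ^ (4 * (4 - 1)) * (((p ^ f) ^ 4 - 1) * prB (p ^ f) (4 - 1)) := by
      have := hn.eq
      rw [hfl'] at this
      exact this
    have hT8 : Nat.gcd 4 ((p ^ f) ^ 4 - 1) * Nat.card (T8 F) =
        (p ^ f) ^ (4 * (4 - 1)) * (((p ^ f) ^ 4 - 1) * prB (p ^ f) (4 - 1)) := by
      have h1 := oplus_eq (F := F) (m := 4) le_rfl
      rw [hFc] at h1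
      exact h1
    rw [← hT8] at h1
    have h2 : Nat.card S = Nat.card (T8 F) :=
      Nat.eq_of_mul_eq_mul_left (Nat.gcd_pos_of_pos_left _ (by norm_num)) h1
    have h3 : Nat.card S ≤ Nat.card R := Nat.le_of_dvd Nat.card_pos (Subgroup.card_subgroup_dvd_card S)
    exact hR (Subgroup.eq_top_of_le_card R (h2 ▸ h3))
  · exfalso
    obtain ⟨K, i1, i2, i3, m, b, c, hm, hm8, hab, ⟨e'⟩⟩ := h'
    rw [h8] at hm8
    rcases (show m = 4 ∨ m = 5 by omega) with rfl | rfl
    · have hn : IsNamed (.ominus 4 (Fintype.card K)) S := by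
        refine .mk' ⟨K, inferInstance, inferInstance, b, c, rfl, hab, ⟨e.trans e'⟩⟩
          ⟨le_rfl, Fintype.isPrimePow_card_of_field⟩ ?_
        rw [Nat.card_congr (e.trans e').toEquiv]
        exact ominus_eq le_rfl hab
      obtain ⟨f, hf, hfl, hM, hKD, hTD⟩ := K1 hn (exists_pow_card K)
      have hM' : f * (2 * 4) = 6 * a := hM
      -- a primitive prime divisor for the exponent `6`
      obtain ⟨t, ht⟩ := exists_prim (e := f * 6) hp.two_le (by omega) (by omega)
      have hY : Yg (.ominus 4 (Fintype.card K)) 6 := by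
        show 4 ≤ 6 ∧ 6 ≤ 2 * 4 ∧ 2 ∣ 6
        omega
      obtain ⟨i, hi, hd⟩ := hTD.exp ht (hKD.has hY (by omega) ht)
      obtain ⟨h1, h2, h3⟩ := hi
      obtain ⟨b', rfl⟩ : ∃ b', f = 3 * b' := ⟨f / 3, by omega⟩
      obtain rfl : a = 4 * b' := by omega
      obtain ⟨c', hc'⟩ := hd
      have h5 : b' ≠ 0 := by omega
      have h6 : 4 * i = 18 * c' := by
        have : b' * (4 * i) = b' * (18 * c') := by
          calc b' * (4 * i) = 4 * b' * i := by ring
            _ = 3 * b' * 6 * c' := hc'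
            _ = b' * (18 * c') := by ring
        exact Nat.eq_of_mul_eq_mul_left (by omega) this
      omega
    · obtain ⟨τ, h1⟩ := H925.Nat.po_minus (p := p) hcore (by rw [h8]; norm_num) (m := 4) le_rfl (by norm_num) hab e'
      have := h1.card_eq
      simp at this
  · exfalso
    obtain ⟨-, K, i1, i2, i3, hK, ⟨e'⟩⟩ := h'
    have := (H927.G2.core_g2 p hcore (by rw [Nat.card_eq_fintype_card]; exact hK) e' (by rw [h8]; norm_num)).2.2.2.2
    rw [h8] at this
    omega
  · exfalso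
    obtain ⟨-, K, i1, i2, i3, q, hq, hK, ⟨e'⟩⟩ := h'
    obtain ⟨-, h1, -⟩ := H392.TD.d4_small p hcore hq hK e' (by rw [h8]; norm_num)
    obtain ⟨k', hk'⟩ := exists_pow_card (p := p) K
    have T : OrderTable.{0} := table
    have hn : IsNamed (.td4 q) S := by
      refine .mk' ⟨K, inferInstance, inferInstance, hK, ⟨e.trans e'⟩⟩ hq ?_
      rw [Nat.card_congr (e.trans e').toEquiv]
      change 1 * _ = _ ^ 12 * _
      rw [T.td4 K q hq hK]; ring
    obtain ⟨f, hf, hfl, hM, -⟩ := K1 hn (exists_pow hp three_ne_zero (hK.symm.trans hk'))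
    have hfl' : q = p ^ f := hfl
    have hM' : f * 12 = 6 * a := hM
    rw [hF, hfl', ← pow_mul] at h1
    have := inj h1
    omega
  · exfalso
    obtain ⟨-, hp2, h'⟩ := h'
    have := H927.LDTwF4.card_le_iso hp2 hcore.perfect h'
    rw [h8] at this
    omega

end

end Cfsg.Agent.H911.O8S
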